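import Mathlib
import Cfsg.Prelude.Def_Characters

/-!
# Sylow subgroups whose non-identity elements all have the same centralizer

Group-theoretic part: `Q` is a nontrivial `p`-subgroup containing all `p`-elements of its
centralizer `C`, and every non-identity element of `Q` has centralizer `C`.
-/

set_option autoImplicit false

namespace Cfsg.Agent.H603.Cent

universe u

variable {G : Type u} [Group G]

/-- `Q` is a nontrivial `p`-group with `C_G(x) = C_G(Q)` for all `1 ≠ x ∈ Q`, containing all the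
`p`-elements of `C_G(Q)`. -/
structure Hyp (p : ℕ) (Q : Subgroup G) : Prop where
  ne_bot : Q ≠ ⊥
  star : ∀ x ∈ Q, x ≠ 1 →
    Subgroup.centralizer ({x} : Set G) = Subgroup.centralizer (Q : Set G)
  pgroup : IsPGroup p Q
  max : ∀ c ∈ Subgroup.centralizer (Q : Set G), ∀ k : ℕ, c ^ p ^ k = 1 → c ∈ Q

variable {p : ℕ} {Q : Subgroup G}

theorem Hyp.comm (h : Hyp p Q) {x y : G} (hx : x ∈ Q) (hy : y ∈ Q) : x * y = y * x := by
  by_cases h1 : x = 1
  · subst h1; simp
  · have h2 : x ∈ Subgroup.centralizer ({x} : Set G) :=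
      Subgroup.mem_centralizer_singleton_iff.2 rfl
    rw [h.star x hx h1] at h2
    exact (Subgroup.mem_centralizer_iff.1 h2 y hy).symm

theorem Hyp.le (h : Hyp p Q) : Q ≤ Subgroup.centralizer (Q : Set G) := fun x hx =>
  Subgroup.mem_centralizer_iff.2 fun y hy => h.comm hy hx

/-- The centralizer of a set is normalized by the normalizer. -/
theorem conj_mem_centralizer {t c : G} (ht : t ∈ Subgroup.normalizer (Q : Set G))
    (hc : c ∈ Subgroup.centralizer (Q : Set G)) :
    t⁻¹ * c * t ∈ Subgroup.centralizer (Q : Set G) := by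
  rw [Subgroup.mem_centralizer_iff] at hc ⊢
  intro x hx
  have h1 : t * x * t⁻¹ ∈ Q := (Subgroup.mem_normalizer_iff.1 ht x).1 hx
  have h2 := hc _ h1
  calc x * (t⁻¹ * c * t) = t⁻¹ * (t * x * t⁻¹ * c) * t := by group
    _ = t⁻¹ * (c * (t * x * t⁻¹)) * t := by rw [h2]
    _ = t⁻¹ * c * t * x := by group

theorem conj_mem_self {t x : G} (ht : t ∈ Subgroup.normalizer (Q : Set G)) (hx : x ∈ Q) :
    t⁻¹ * x * t ∈ Q := by
  have h1 := inv_mem ht
  have h2 := (Subgroup.mem_normalizer_iff.1 h1 x).1 hx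
  rwa [inv_inv] at h2

theorem orderOf_conj (t c : G) : orderOf (t⁻¹ * c * t) = orderOf c := by
  have h : t⁻¹ * c * t = MulAut.conj t⁻¹ c := by simp
  rw [h]
  exact MulEquiv.orderOf_eq (MulAut.conj t⁻¹) c

/-- The trivial intersection property. -/
theorem Hyp.ti [Finite G] [hp : Fact p.Prime] (h : Hyp p Q) {c t : G}
    (hc : c ∈ Subgroup.centralizer (Q : Set G)) (hpc : p ∣ orderOf c)
    (ht : t⁻¹ * c * t ∈ Subgroup.centralizer (Q : Set G)) :
    t ∈ Subgroup.normalizer (Q : Set G) := by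
  have h0 : orderOf c ≠ 0 := (orderOf_pos c).ne'
  obtain ⟨k, m, hm, hkm⟩ := Nat.exists_eq_pow_mul_and_not_dvd h0 p hp.1.ne_one
  set c' := c ^ m with hc'
  have hc'C : c' ∈ Subgroup.centralizer (Q : Set G) := Subgroup.pow_mem _ hc m
  have hc'1 : c' ^ p ^ k = 1 := by
    rw [hc', ← pow_mul, mul_comm, ← hkm, pow_orderOf_eq_one]
  have hc'n : c' ≠ 1 := by
    intro h1
    exact hm (hpc.trans (orderOf_dvd_of_pow_eq_one h1))
  have hc'Q : c' ∈ Q := h.max c' hc'C k hc'1
  have hd : (t⁻¹ * c * t) ^ m = t⁻¹ * c' * t := by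
    have h1 : ∀ j : ℕ, (t⁻¹ * c * t) ^ j = t⁻¹ * c ^ j * t := by
      intro j
      induction j with
      | zero => simp
      | succ j ih => rw [pow_succ, ih, pow_succ]; group
    exact h1 m
  have hdC : t⁻¹ * c' * t ∈ Subgroup.centralizer (Q : Set G) := by
    rw [← hd]; exact Subgroup.pow_mem _ ht m
  have hdk : (t⁻¹ * c' * t) ^ p ^ k = 1 := by
    rw [← orderOf_dvd_iff_pow_eq_one, orderOf_conj]
    exact orderOf_dvd_of_pow_eq_one hc'1
  have hdQ : t⁻¹ * c' * t ∈ Q := h.max _ hdC k hdk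
  have hdn : t⁻¹ * c' * t ≠ 1 := by
    intro h1
    apply hc'n
    have h2 : c' = t * (t⁻¹ * c' * t) * t⁻¹ := by group
    rw [h2, h1]; group
  have e1 := h.star c' hc'Q hc'n
  have e2 := h.star _ hdQ hdn
  have key : ∀ x, x ∈ (Q : Set G) → t⁻¹ * x * t⁻¹⁻¹ ∈ (Q : Set G) := by
    intro x hx
    rw [inv_inv]
    have h1 : x ∈ Subgroup.centralizer ({c'} : Set G) := by rw [e1]; exact h.le hx
    rw [Subgroup.mem_centralizer_singleton_iff] at h1
    have h2 : t⁻¹ * x * t ∈ Subgroup.centralizer ({t⁻¹ * c' * t} : Set G) := by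
      rw [Subgroup.mem_centralizer_singleton_iff]
      calc t⁻¹ * x * t * (t⁻¹ * c' * t) = t⁻¹ * (x * c') * t := by group
        _ = t⁻¹ * (c' * x) * t := by rw [h1]
        _ = t⁻¹ * c' * t * (t⁻¹ * x * t) := by group
    rw [e2] at h2
    obtain ⟨j, hj⟩ := h.pgroup ⟨x, hx⟩
    have hj' : x ^ p ^ j = 1 := by simpa using congrArg Subtype.val hj
    refine h.max _ h2 j ?_
    rw [← orderOf_dvd_iff_pow_eq_one, orderOf_conj]
    exact orderOf_dvd_of_pow_eq_one hj'
  have h3 : t⁻¹ ∈ Subgroup.normalizer (Q : Set G) := Subgroup.mem_normalizer_fintype key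
  simpa using inv_mem h3

/-- Conjugation by an element of the normalizer, on the centralizer. -/
def cjC (Q : Subgroup G) (t : Subgroup.normalizer (Q : Set G)) :
    Subgroup.centralizer (Q : Set G) →* Subgroup.centralizer (Q : Set G) where
  toFun c := ⟨(t : G)⁻¹ * c * t, conj_mem_centralizer t.2 c.2⟩
  map_one' := by apply Subtype.ext; simp
  map_mul' a b := by apply Subtype.ext; simp; group

/-- Conjugation by an element of the normalizer, on the subgroup. -/
def cjQ (Q : Subgroup G) (t : Subgroup.normalizer (Q : Set G)) : Q →* Q where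
  toFun c := ⟨(t : G)⁻¹ * c * t, conj_mem_self t.2 c.2⟩
  map_one' := by apply Subtype.ext; simp
  map_mul' a b := by apply Subtype.ext; simp; group

theorem cjC_coe (t : Subgroup.normalizer (Q : Set G)) (c : Subgroup.centralizer (Q : Set G)) :
    (cjC Q t c : G) = (t : G)⁻¹ * c * t := rfl

theorem cjQ_coe (t : Subgroup.normalizer (Q : Set G)) (c : Q) :
    (cjQ Q t c : G) = (t : G)⁻¹ * c * t := rfl

theorem cjC_surjective (t : Subgroup.normalizer (Q : Set G)) :
    Function.Surjective (cjC Q t) := by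
  intro c
  refine ⟨cjC Q t⁻¹ c, Subtype.ext ?_⟩
  rw [cjC_coe, cjC_coe]
  simp only [InvMemClass.coe_inv, inv_inv]
  group

theorem cjQ_cjQ (s t : Subgroup.normalizer (Q : Set G)) (x : Q) :
    cjQ Q s (cjQ Q t x) = cjQ Q (t * s) x := by
  apply Subtype.ext
  rw [cjQ_coe, cjQ_coe, cjQ_coe]
  push_cast
  group

theorem cjQ_comp (s t : Subgroup.normalizer (Q : Set G)) :
    (cjQ Q s).comp (cjQ Q t) = cjQ Q (t * s) := MonoidHom.ext fun x => cjQ_cjQ s t x

theorem cjQ_one : cjQ Q 1 = MonoidHom.id Q := by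
  ext x
  rw [cjQ_coe]
  simp

theorem cjQ_surjective (t : Subgroup.normalizer (Q : Set G)) :
    Function.Surjective (cjQ Q t) := by
  intro c
  refine ⟨cjQ Q t⁻¹ c, ?_⟩
  rw [cjQ_cjQ, inv_mul_cancel, cjQ_one]
  rfl

/-- A homomorphism on `Q` fixed by an element of `N(Q)` outside `C(Q)` is trivial. -/
theorem Hyp.stab [Finite G] (h : Hyp p Q) {M : Type*} [Group M] {t : Subgroup.normalizer (Q : Set G)}
    (l : Q →* M) (ht : (t : G) ∉ Subgroup.centralizer (Q : Set G)) (hl : l.comp (cjQ Q t) = l) :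
    l = 1 := by
  let f : Q →* Q :=
    { toFun := fun x => x⁻¹ * cjQ Q t x
      map_one' := by simp
      map_mul' := fun a b => by
        have hab : ∀ x y : Q, x * y = y * x := fun x y => Subtype.ext (h.comm x.2 y.2)
        rw [map_mul, mul_inv_rev]
        calc b⁻¹ * a⁻¹ * (cjQ Q t a * cjQ Q t b) = b⁻¹ * (a⁻¹ * cjQ Q t a) * cjQ Q t b := by group
          _ = (a⁻¹ * cjQ Q t a) * b⁻¹ * cjQ Q t b := by rw [hab b⁻¹]
          _ = a⁻¹ * cjQ Q t a * (b⁻¹ * cjQ Q t b) := by group }
  have hf : ∀ x, f x = x⁻¹ * cjQ Q t x := fun _ => rfl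
  have hinj : Function.Injective f := by
    rw [injective_iff_map_eq_one]
    intro x hx
    by_contra hx1
    apply ht
    rw [hf, inv_mul_eq_one] at hx
    have hx' : (x : G) = (t : G)⁻¹ * x * t := by
      have := congrArg Subtype.val hx
      rwa [cjQ_coe] at this
    rw [← h.star x x.2 (by simpa using hx1), Subgroup.mem_centralizer_singleton_iff]
    calc (t : G) * x = t * ((t : G)⁻¹ * x * t) := by rw [← hx']
      _ = x * t := by group
  have hsurj : Function.Surjective f := Finite.surjective_of_injective hinj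
  ext x
  obtain ⟨y, rfl⟩ := hsurj x
  rw [hf, map_mul, map_inv]
  have h1 : l (cjQ Q t y) = l y := DFunLike.congr_fun hl y
  rw [h1, inv_mul_cancel]
  rfl

/-- Elements of the centralizer act trivially. -/
theorem cjQ_of_mem {t : Subgroup.normalizer (Q : Set G)}
    (ht : (t : G) ∈ Subgroup.centralizer (Q : Set G)) : cjQ Q t = MonoidHom.id Q := by
  ext x
  rw [cjQ_coe]
  have h1 := Subgroup.mem_centralizer_iff.1 ht x x.2
  simp only [MonoidHom.id_apply]
  rw [mul_assoc, h1]
  group

/-- A Sylow subgroup with the centralizer condition satisfies `Hyp`. -/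
theorem hyp_of_sylow [Finite G] [hp : Fact p.Prime] (P : Sylow p G) (hpG : p ∣ Nat.card G)
    (hstar : ∀ x ∈ (P : Subgroup G), x ≠ 1 → Subgroup.centralizer ({x} : Set G) =
      Subgroup.centralizer ((P : Subgroup G) : Set G)) : Hyp p (P : Subgroup G) where
  ne_bot := Sylow.ne_bot_of_dvd_card P hpG
  star := hstar
  pgroup := P.isPGroup'
  max := by
    intro c hc k hk
    have h1 : IsPGroup p (Subgroup.zpowers c) := by
      obtain ⟨j, -, hj⟩ := (Nat.dvd_prime_pow hp.1).1 (orderOf_dvd_of_pow_eq_one hk)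
      exact IsPGroup.of_card (n := j) (by rw [Nat.card_zpowers, hj])
    have h2 := h1.inf_normalizer_sylow P
    have h3 : c ∈ Subgroup.zpowers c ⊓ Subgroup.normalizer (P : Set G) := by
      refine ⟨Subgroup.mem_zpowers c, ?_⟩
      show c ∈ Subgroup.normalizer ((P : Subgroup G) : Set G)
      have h5 : c ∈ Subgroup.normalizer ((P : Subgroup G) : Set G) := by
        refine Subgroup.mem_normalizer_fintype ?_
        intro x hx
        have h4 := Subgroup.mem_centralizer_iff.1 hc x hx
        rw [← h4]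
        simpa using hx
      exact h5
    rw [h2] at h3
    exact h3.2

end Cfsg.Agent.H603.Cent
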