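import Cfsg.Agent.OddOrderCharacters.NormTwo
import Cfsg.Agent.OddOrderCharacters.VChar

/-!
# An impossible configuration of generalized characters
-/

set_option autoImplicit false

namespace Cfsg.Agent.H603.Comb

open Cfsg Cfsg.Agent.Characters.Core
open scoped ComplexConjugate

universe u

variable {G : Type u} [Group G] [Fintype G]

open Classical in
/-- A coherent family of differences together with a short generalized character. -/
theorem no_config {J : Type*} [Fintype J] (j1 j2 j0 : J) (h12 : j2 ≠ j1) (h10 : j0 ≠ j1)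
    (h02 : j0 ≠ j2) (B : J → G → ℂ) (hB : ∀ j, j ≠ j1 → IsGeneralizedCharacter G (B j))
    (hB1 : ∀ j, j ≠ j1 → B j 1 = 0) (hBn : ∀ j, j ≠ j1 → classInner (B j) (B j) = 2)
    (hBB : ∀ j k, j ≠ j1 → k ≠ j1 → j ≠ k → classInner (B j) (B k) = 1)
    (hBone : ∀ j, j ≠ j1 → classInner (B j) 1 = 0)
    {ψ : G → ℂ} (hψ : IsIrrCharacter G ψ)
    (k : ℕ) (hk : 0 < k) (hψ0 : classInner (B j0) ψ = k)
    (hψ2 : classInner (B j2) ψ = 0)
    {α : G → ℂ} (hα1 : α 1 = 0)
    (hαone : classInner α 1 = 1) (c : ℂ) (hαB : ∀ j, j ≠ j1 → classInner α (B j) = c)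
    (a : ℕ) (ha : 0 < a) (hαψ : classInner α ψ = a)
    (n : ℕ) (hαn : classInner α α = n) (hnJ : n ≤ Fintype.card J) : False := by
  -- step one
  obtain ⟨ψ', ψ1, hψ', hψ1, hne01, hB0⟩ :=
    OddOrderCharacters.NormTwo.exists_sub_of_norm_two (hB j0 h10) (hBn j0 h10) (hB1 j0 h10)
  have e0 : ψ' = ψ := by
    by_contra hne
    rw [hB0, classInner_sub_left, classInner_irr_ne hψ' hψ hne, classInner_irr hψ1 hψ] at hψ0
    split_ifs at hψ0 with h
    · have h1 : ((k + 1 : ℕ) : ℂ) = 0 := by push_cast; rw [← hψ0]; ring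
      have h2 : k + 1 = 0 := by exact_mod_cast h1
      omega
    · have h1 : ((k : ℕ) : ℂ) = 0 := by rw [← hψ0]; ring
      have h2 : k = 0 := by exact_mod_cast h1
      omega
  subst e0
  -- step two
  have h2 : ∃ ψ2 : G → ℂ, IsIrrCharacter G ψ2 ∧ ψ2 ≠ ψ1 ∧ ψ2 ≠ ψ' ∧ B j2 = ψ2 - ψ1 := by
    obtain ⟨X, Y, hX, hY, hXY, hBj⟩ :=
      OddOrderCharacters.NormTwo.exists_sub_of_norm_two (hB j2 h12) (hBn j2 h12) (hB1 j2 h12)
    have e1 := hBB j2 j0 h12 h10 (Ne.symm h02)
    rw [hBj, hB0, classInner_sub_left, classInner_sub_right, classInner_sub_right,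
      classInner_irr hX hψ', classInner_irr hX hψ1, classInner_irr hY hψ',
      classInner_irr hY hψ1] at e1
    rw [hBj, classInner_sub_left, classInner_irr hX hψ', classInner_irr hY hψ'] at hψ2
    have hXn : X ≠ ψ' := by
      rintro rfl
      rw [if_pos rfl, if_neg (Ne.symm hXY)] at hψ2
      norm_num at hψ2
    have hYn : Y ≠ ψ' := by
      rintro rfl
      rw [if_pos rfl, if_neg hXY] at hψ2
      norm_num at hψ2
    have hY1 : Y = ψ1 := by
      by_contra hne
      rw [if_neg hXn, if_neg hYn, if_neg hne] at e1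
      split_ifs at e1 <;> norm_num at e1
    subst hY1
    exact ⟨X, hX, hXY, hXn, hBj⟩
  obtain ⟨ψ2, hψ2i, hne21, hne20, hB2⟩ := h2
  -- step three
  have h3 : ∀ j, j ≠ j1 → ∃ ψj : G → ℂ, IsIrrCharacter G ψj ∧ ψj ≠ ψ1 ∧ B j = ψj - ψ1 := by
    intro j hj
    by_cases hj0 : j = j0
    · subst hj0; exact ⟨ψ', hψ', hne01, hB0⟩
    by_cases hj2 : j = j2
    · subst hj2; exact ⟨ψ2, hψ2i, hne21, hB2⟩
    obtain ⟨X, Y, hX, hY, hXY, hBj⟩ :=
      OddOrderCharacters.NormTwo.exists_sub_of_norm_two (hB j hj) (hBn j hj) (hB1 j hj)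
    have e1 := hBB j j0 hj h10 hj0
    have e2 := hBB j j2 hj h12 hj2
    rw [hBj, hB0, classInner_sub_left, classInner_sub_right, classInner_sub_right,
      classInner_irr hX hψ', classInner_irr hX hψ1, classInner_irr hY hψ',
      classInner_irr hY hψ1] at e1
    rw [hBj, hB2, classInner_sub_left, classInner_sub_right, classInner_sub_right,
      classInner_irr hX hψ2i, classInner_irr hX hψ1, classInner_irr hY hψ2i,
      classInner_irr hY hψ1] at e2
    by_cases hY1 : Y = ψ1
    · subst hY1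
      exact ⟨X, hX, hXY, hBj⟩
    · exfalso
      rw [if_neg hY1] at e1 e2
      by_cases hX1 : X = ψ1
      · subst hX1
        rw [if_pos rfl, if_neg (Ne.symm hne01)] at e1
        split_ifs at e1 <;> norm_num at e1
      · rw [if_neg hX1] at e1 e2
        by_cases hX0 : X = ψ'
        · subst hX0
          rw [if_neg (Ne.symm hne20)] at e2
          split_ifs at e2 <;> norm_num at e2
        · rw [if_neg hX0] at e1
          split_ifs at e1 <;> norm_num at e1
  choose f hf using h3
  -- the family, extended by `ψ1`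
  let F : J → G → ℂ := fun j => if hj : j = j1 then ψ1 else f j hj
  have hFj : ∀ j, ∀ hj : j ≠ j1, F j = f j hj := fun j hj => dif_neg hj
  have hFirr : ∀ j, j ≠ j1 → IsIrrCharacter G (F j) := fun j hj => by
    rw [hFj j hj]; exact (hf j hj).1
  have hFB : ∀ j, j ≠ j1 → B j = F j - ψ1 := fun j hj => by
    rw [hFj j hj]; exact (hf j hj).2.2
  have hF1 : ∀ j, j ≠ j1 → F j ≠ ψ1 := fun j hj => by
    rw [hFj j hj]; exact (hf j hj).2.1
  have hFne : ∀ j k, j ≠ j1 → k ≠ j1 → j ≠ k → F j ≠ F k := by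
    intro j k hj hk hjk hjk'
    have e1 := hBB j k hj hk hjk
    rw [hFB j hj, hFB k hk, hjk'] at e1
    have e2 := hBn k hk
    rw [hFB k hk] at e2
    rw [e1] at e2
    norm_num at e2
  have hα' : ∀ j, j ≠ j1 → classInner α (F j) = a := by
    intro j hj
    have e1 := hαB j hj
    have e2 := hαB j0 h10
    rw [hFB j hj, classInner_sub_right] at e1
    rw [hB0, classInner_sub_right, hαψ] at e2
    linear_combination e1 - e2
  have hF11 : ∀ j, j ≠ j1 → F j ≠ 1 := by
    intro j hj h1
    have e1 := hBone j hj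
    rw [hFB j hj, classInner_sub_left, h1, classInner_irr_self isIrr_one,
      classInner_irr hψ1 isIrr_one] at e1
    split_ifs at e1 with h2
    · exact hF1 j hj (h1.trans h2.symm)
    · norm_num at e1
  -- the sum
  set T := Finset.univ.erase j1 with hT
  have hTcard : T.card + 1 = Fintype.card J := by
    rw [hT, Finset.card_erase_of_mem (Finset.mem_univ _), Finset.card_univ]
    have : 0 < Fintype.card J := Fintype.card_pos_iff.2 ⟨j1⟩
    omega
  have hTm : ∀ j ∈ T, j ≠ j1 := fun j hj => Finset.ne_of_mem_erase hj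
  set S : G → ℂ := 1 + ∑ j ∈ T, F j with hS
  have hSS : classInner S S = 1 + T.card := by
    rw [hS, classInner_add_left, classInner_add_right, classInner_add_right,
      classInner_irr_self isIrr_one, classInner_sum_right, classInner_sum_left,
      classInner_sum_left]
    have e1 : ∑ j ∈ T, classInner (1 : G → ℂ) (F j) = 0 :=
      Finset.sum_eq_zero fun j hj => classInner_irr_ne isIrr_one (hFirr j (hTm j hj))
        (Ne.symm (hF11 j (hTm j hj)))
    have e2 : ∑ j ∈ T, classInner (F j) (1 : G → ℂ) = 0 :=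
      Finset.sum_eq_zero fun j hj => classInner_irr_ne (hFirr j (hTm j hj)) isIrr_one
        (hF11 j (hTm j hj))
    have e3 : ∑ i ∈ T, classInner (F i) (∑ j ∈ T, F j) = ∑ i ∈ T, (1 : ℂ) := by
      refine Finset.sum_congr rfl fun i hi => ?_
      rw [classInner_sum_right, Finset.sum_eq_single i]
      · exact classInner_irr_self (hFirr i (hTm i hi))
      · intro j hj hji
        exact classInner_irr_ne (hFirr i (hTm i hi)) (hFirr j (hTm j hj))
          (hFne i j (hTm i hi) (hTm j hj) (Ne.symm hji))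
      · intro h; exact absurd hi h
    rw [e1, e2, e3]
    simp
  have hαS : classInner α S = 1 + T.card * a := by
    rw [hS, classInner_add_right, hαone, classInner_sum_right]
    congr 1
    rw [Finset.sum_congr rfl fun j hj => hα' j (hTm j hj), Finset.sum_const, nsmul_eq_mul]
  have hSα : classInner S α = 1 + T.card * a := by
    rw [← classInner_conj_symm, hαS]
    simp
  have hnorm : classInner (α - S) (α - S) =
      ((n : ℝ) - 2 * (1 + T.card * a) + (1 + T.card) : ℝ) := by
    rw [classInner_sub_left, classInner_sub_right, classInner_sub_right, hαn, hαS, hSα, hSS]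
    push_cast
    ring
  have hnn := OddOrderCharacters.VChar.classInner_self_re_nonneg (α - S)
  rw [hnorm, Complex.ofReal_re] at hnn
  have hna : (n : ℝ) ≤ 1 + T.card := by
    have : n ≤ 1 + T.card := by omega
    exact_mod_cast this
  have haT : (T.card : ℝ) ≤ T.card * a := by
    have : T.card ≤ T.card * a := Nat.le_mul_of_pos_right _ ha
    exact_mod_cast this
  have hzero : ((n : ℝ) - 2 * (1 + T.card * a) + (1 + T.card) : ℝ) = 0 := by
    apply le_antisymm _ hnn
    linarith
  rw [hzero, Complex.ofReal_zero] at hnorm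
  have hαS' : α = S := by
    have := classInner_self_eq_zero hnorm
    exact sub_eq_zero.1 this
  have hS1 : S 1 = 0 := by rw [← hαS', hα1]
  have hd : ∀ j ∈ T, ∃ d : ℕ, F j 1 = d := by
    intro j hj
    obtain ⟨d, -, hd⟩ := isIrr_apply_one (hFirr j (hTm j hj))
    exact ⟨d, hd⟩
  choose d hd using hd
  have hS1' : S 1 = ((1 + ∑ j ∈ T.attach, d j.1 j.2 : ℕ) : ℂ) := by
    rw [hS, Pi.add_apply, Finset.sum_apply, Pi.one_apply]
    push_cast
    congr 1
    rw [← Finset.sum_attach]
    exact Finset.sum_congr rfl fun j _ => hd j.1 j.2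
  rw [hS1'] at hS1
  have : 1 + ∑ j ∈ T.attach, d j.1 j.2 = 0 := by exact_mod_cast hS1
  omega

end Cfsg.Agent.H603.Comb
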