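import Cfsg.Agent.H603.Cent

/-!
# Extending linear characters of a central Sylow subgroup
-/

set_option autoImplicit false

namespace Cfsg.Agent.H603.Ext

open Cfsg.Agent.H603.Cent

universe u

variable {G : Type u} [Group G] [Finite G] {p : ℕ} [hp : Fact p.Prime] {Q : Subgroup G}

/-- A retraction-like homomorphism from a group onto a central Sylow subgroup: on the subgroup it is
a power map with exponent prime to `p`, and it kills the `p`-regular elements. -/
theorem exists_tau {C : Type u} [Group C] [Finite C] (S : Sylow p C)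
    (hS : ∀ x ∈ (S : Subgroup C), ∀ c : C, x * c = c * x) :
    ∃ (τ : C →* (S : Subgroup C)) (m : ℕ), m.Coprime p ∧ (∀ x : (S : Subgroup C), τ x = x ^ m) ∧
      ∀ c : C, ¬ p ∣ orderOf c → τ c = 1 := by
  have hN : Subgroup.normalizer ((S : Subgroup C) : Set C) ≤ Subgroup.centralizer (S : Set C) := by
    intro c _
    rw [Subgroup.mem_centralizer_iff]
    intro x hx
    exact hS x hx c
  refine ⟨MonoidHom.transferSylow S hN, (S : Subgroup C).index, ?_, ?_, ?_⟩
  · exact ((Nat.Prime.coprime_iff_not_dvd hp.1).2 S.not_dvd_index).symm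
  · intro x
    exact MonoidHom.transferSylow_eq_pow S hN x x.2
  · intro c hc
    set y := MonoidHom.transferSylow S hN c with hy
    obtain ⟨k, hk⟩ := S.isPGroup' y
    have h1 : orderOf y ∣ orderOf c := orderOf_map_dvd _ _
    have h2 : orderOf y ∣ p ^ k := orderOf_dvd_of_pow_eq_one hk
    obtain ⟨j, -, hj⟩ := (Nat.dvd_prime_pow hp.1).1 h2
    have h3 : j = 0 := by
      by_contra hj0
      apply hc
      refine dvd_trans ?_ h1
      rw [hj]
      exact dvd_pow_self p hj0
    rw [h3, pow_zero, orderOf_eq_one_iff] at hj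
    exact hj

/-- Linear characters of `Q` extend to `C(Q)`, with the extensions trivial on `p`-regular
elements, multiplicatively. -/
theorem exists_ext (P : Sylow p G) (h : Hyp p (P : Subgroup G)) :
    ∃ E : ((P : Subgroup G) →* ℂˣ) →*
        (Subgroup.centralizer ((P : Subgroup G) : Set G) →* ℂˣ),
      (∀ l (x : (P : Subgroup G)), E l ⟨x, h.le x.2⟩ = l x) ∧
      ∀ l (c : Subgroup.centralizer ((P : Subgroup G) : Set G)), ¬ p ∣ orderOf c → E l c = 1 := by
  set C := Subgroup.centralizer ((P : Subgroup G) : Set G) with hC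
  have hle : (P : Subgroup G) ≤ C := h.le
  let S : Sylow p C := P.subtype hle
  have hSmem : ∀ x : C, x ∈ (S : Subgroup C) ↔ (x : G) ∈ (P : Subgroup G) := fun x => by
    show x ∈ (S : Subgroup C) ↔ _
    rw [Sylow.coe_subtype, Subgroup.mem_subgroupOf]
  have hS : ∀ x ∈ (S : Subgroup C), ∀ c : C, x * c = c * x := by
    intro x hx c
    apply Subtype.ext
    exact Subgroup.mem_centralizer_iff.1 c.2 x ((hSmem x).1 hx)
  obtain ⟨τ, m, hm, h1, h2⟩ := exists_tau S hS
  let e : (S : Subgroup C) →* (P : Subgroup G) :=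
    { toFun := fun x => ⟨((x : C) : G), (hSmem x).1 x.2⟩
      map_one' := rfl
      map_mul' := fun _ _ => rfl }
  have hcop : m.Coprime (Nat.card (P : Subgroup G)) := by
    obtain ⟨k, hk⟩ := IsPGroup.iff_card.1 h.pgroup
    rw [hk]
    exact Nat.Coprime.pow_right k hm
  have hPne : Nat.card (P : Subgroup G) ≠ 1 := by
    intro h3
    exact h.ne_bot (Subgroup.card_eq_one.1 h3)
  obtain ⟨m', hm'⟩ := Nat.exists_mul_mod_eq_one_of_coprime hcop
    (lt_of_le_of_ne Nat.card_pos (Ne.symm hPne))
  refine ⟨{ toFun := fun l => ((l.comp e).comp τ) ^ m', map_one' := ?_, map_mul' := ?_ }, ?_, ?_⟩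
  · ext c
    simp
  · intro a b
    ext c
    simp [mul_pow]
  · intro l x
    show (l (e (τ ⟨x, h.le x.2⟩))) ^ m' = l x
    have h3 : τ ⟨x, h.le x.2⟩ = (⟨⟨x, h.le x.2⟩, (hSmem _).2 x.2⟩ : (S : Subgroup C)) ^ m :=
      h1 ⟨⟨x, h.le x.2⟩, (hSmem _).2 x.2⟩
    have h4 : e (τ ⟨x, h.le x.2⟩) = x ^ m := by
      rw [h3, map_pow]
      rfl
    rw [h4, map_pow, ← pow_mul]
    have h5 : (l x) ^ Nat.card (P : Subgroup G) = 1 := by
      rw [← map_pow, pow_card_eq_one', map_one]
    have h6 : m * m' = Nat.card (P : Subgroup G) * (m * m' / Nat.card (P : Subgroup G)) + 1 := by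
      have := Nat.div_add_mod (m * m') (Nat.card (P : Subgroup G))
      rw [hm'.2] at this
      exact this.symm
    rw [h6, pow_add, pow_mul, h5, one_pow, one_mul, pow_one]
  · intro l c hc
    show (l (e (τ c))) ^ m' = 1
    rw [h2 c hc, map_one, map_one, one_pow]

end Cfsg.Agent.H603.Ext
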