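import Cfsg.Agent.H603.Ind
import Cfsg.Agent.S0898

/-!
# Multiplicities of linear characters of an abelian subgroup
-/

set_option autoImplicit false

namespace Cfsg.Agent.H603.Mult

open Cfsg Cfsg.Agent.Characters.Core Cfsg.Agent.H603.Cent Cfsg.Agent.H603.Ind
open scoped ComplexConjugate

universe u

section abelian

variable {A : Type u} [Group A] [Fintype A]

/-- The irreducible characters of an abelian group are the linear ones. -/
noncomputable def linEquiv (hab : ∀ a b : A, a * b = b * a) : (A →* ℂˣ) ≃ IrrCharacter A :=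
  (Characters.Linear.linearEquiv A).trans
    (Equiv.subtypeUnivEquiv fun χ => S0898.irr_one_of_comm hab χ.2)

omit [Fintype A] in
theorem linEquiv_apply (hab : ∀ a b : A, a * b = b * a) (l : A →* ℂˣ) :
    ((linEquiv hab l : IrrCharacter A) : A → ℂ) = fun a => (l a : ℂ) := rfl

omit [Fintype A] in
theorem isClass (hab : ∀ a b : A, a * b = b * a) (g : A → ℂ) : IsClassFunction A g := by
  intro a b
  rw [hab b a, mul_inv_cancel_right]

theorem sum_eq_one (hab : ∀ a b : A, a * b = b * a) [Fintype (A →* ℂˣ)] (g : A → ℂ) :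
    g 1 = ∑ l : A →* ℂˣ, classInner g (fun a => (l a : ℂ)) := by
  classical
  have hf : Finite (IrrCharacter A) := finite_irr
  have : Fintype (IrrCharacter A) := Fintype.ofFinite _
  have h1 := congrFun (classFunction_eq_sum (isClass hab g)) 1
  rw [h1, Finset.sum_apply]
  symm
  refine Fintype.sum_equiv (linEquiv hab) _ _ fun l => ?_
  rw [linEquiv_apply, Pi.smul_apply, map_one]
  simp

theorem parseval (hab : ∀ a b : A, a * b = b * a) [Fintype (A →* ℂˣ)] (g g' : A → ℂ) :
    classInner g g' = ∑ l : A →* ℂˣ, classInner g (fun a => (l a : ℂ)) *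
      conj (classInner g' (fun a => (l a : ℂ))) := by
  classical
  have hf : Finite (IrrCharacter A) := finite_irr
  have : Fintype (IrrCharacter A) := Fintype.ofFinite _
  rw [classInner_eq_sum (isClass hab g) (isClass hab g')]
  symm
  exact Fintype.sum_equiv (linEquiv hab) _ _ fun l => rfl

theorem card_hom (hab : ∀ a b : A, a * b = b * a) : Nat.card (A →* ℂˣ) = Nat.card A := by
  rw [Characters.Linear.card_hom_eq_index_commutator]
  have : commutator A = ⊥ := by
    rw [commutator_def, Subgroup.commutator_eq_bot_iff_le_centralizer]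
    intro a _
    rw [Subgroup.mem_centralizer_iff]
    intro b _
    exact hab b a
  rw [this, Subgroup.index_bot]

end abelian

variable {G : Type u} [Group G] {p : ℕ} {Q : Subgroup G}

/-- The multiplicity of `l` in the restriction of `f` to `Q`. -/
noncomputable def mul [Fintype Q] (l : Q →* ℂˣ) (f : G → ℂ) : ℂ :=
  classInner (fun x : Q => f x) (fun x : Q => (l x : ℂ))

theorem mul_nat [Fintype Q] (l : Q →* ℂˣ) {f : G → ℂ} (hf : IsCharacter G f) :
    ∃ n : ℕ, mul l f = n :=
  classInner_isNat (isCharacter_comp Q.subtype hf) (Characters.Linear.isCharacter_hom l)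

theorem mul_sum [Fintype Q] (h : Hyp p Q) [Fintype (Q →* ℂˣ)] (f : G → ℂ) :
    f 1 = ∑ l : Q →* ℂˣ, mul l f :=
  sum_eq_one (fun a b => Subtype.ext (h.comm a.2 b.2)) (fun x : Q => f x)

theorem mul_norm [Fintype Q] (h : Hyp p Q) [Fintype (Q →* ℂˣ)] (f : G → ℂ) :
    mul (1 : Q →* ℂˣ) (fun g => f g * conj (f g)) =
      ∑ l : Q →* ℂˣ, mul l f * conj (mul l f) := by
  have h1 := parseval (fun a b => Subtype.ext (h.comm a.2 b.2)) (fun x : Q => f x)
    (fun x : Q => f x)
  rw [show (∑ l : Q →* ℂˣ, mul l f * conj (mul l f)) = _ from h1.symm]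
  unfold mul classInner
  congr 1
  refine Finset.sum_congr rfl fun x _ => ?_
  simp

theorem mul_conj [Fintype Q] {f : G → ℂ} (hf : IsClassFunction G f)
    (t : Subgroup.normalizer (Q : Set G)) (l : Q →* ℂˣ) :
    mul (l.comp (cjQ Q t)) f = mul l f := by
  unfold mul classInner
  congr 1
  have hbij : Function.Bijective (cjQ Q t) := by
    refine ⟨?_, cjQ_surjective t⟩
    intro a b hab
    have h1 := congrArg (cjQ Q t⁻¹) hab
    rw [cjQ_cjQ, cjQ_cjQ, mul_inv_cancel, cjQ_one] at h1
    exact h1
  refine Fintype.sum_bijective (cjQ Q t) hbij _ _ fun x => ?_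
  show f x * conj (l (cjQ Q t x) : ℂ) = f (cjQ Q t x) * conj (l (cjQ Q t x) : ℂ)
  congr 1
  rw [cjQ_coe]
  have := hf x (t : G)⁻¹
  rw [inv_inv] at this
  exact this.symm

/-- If only the trivial character occurs, the value is constant. -/
theorem const_of_mul [Fintype Q] (h : Hyp p Q) {f : G → ℂ}
    (h0 : ∀ l : Q →* ℂˣ, l ≠ 1 → mul l f = 0) (x : Q) : f x = f 1 := by
  classical
  have hab : ∀ a b : Q, a * b = b * a := fun a b => Subtype.ext (h.comm a.2 b.2)
  have hf : Finite (IrrCharacter Q) := finite_irr
  have : Fintype (IrrCharacter Q) := Fintype.ofFinite _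
  have h1 := classFunction_eq_sum (isClass hab (fun x : Q => f x))
  have h2 : ∀ y : Q, f y = classInner (fun x : Q => f x) (linEquiv hab 1 : Q → ℂ) := by
    intro y
    have h3 := congrFun h1 y
    rw [Finset.sum_apply, Finset.sum_eq_single (linEquiv hab 1)] at h3
    · rw [Pi.smul_apply, smul_eq_mul] at h3
      have h6 : (linEquiv hab 1 : Q → ℂ) y = 1 := by
        rw [linEquiv_apply]; simp
      rw [h6, mul_one] at h3
      exact h3
    · intro χ _ hχ
      obtain ⟨l, rfl⟩ := (linEquiv hab).surjective χ
      have hl : l ≠ 1 := fun h => hχ (by rw [h])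
      have h4 := h0 l hl
      rw [Pi.smul_apply, smul_eq_mul]
      have h5 : classInner (fun x : Q => f x) (linEquiv hab l : Q → ℂ) = 0 := h4
      rw [h5, zero_mul]
    · intro h; exact absurd (Finset.mem_univ _) h
  rw [h2 x]
  have := h2 1
  rw [← this]
  rfl

section res

open Classical in
/-- The multiplicity in `Q` of a linear character in an irreducible character of `C`. -/
theorem res_inner (h : Hyp p Q) [Fintype Q] {η : Subgroup.centralizer (Q : Set G) → ℂ}
    {l l' : Q →* ℂˣ} (hl : Over h η l) :
    classInner (fun x : Q => η ⟨x, h.le x.2⟩) (fun x : Q => (l' x : ℂ)) =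
      if l = l' then η 1 else 0 := by
  have h1 : (fun x : Q => η ⟨x, h.le x.2⟩) = η 1 • fun x : Q => (l x : ℂ) := by
    funext x
    have := hl x 1
    rw [mul_one] at this
    rw [this, Pi.smul_apply, smul_eq_mul, mul_comm]
  rw [h1, classInner_smul_left, classInner_irr (Characters.Linear.isIrrCharacter_hom l)
    (Characters.Linear.isIrrCharacter_hom l')]
  by_cases hll : l = l'
  · subst hll; simp
  · rw [if_neg hll, if_neg, mul_zero]
    intro h2
    apply hll
    ext x
    exact congrFun h2 x

open Classical in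
/-- The multiplicity of `l` in a character of `C`, in terms of the irreducible constituents. -/
theorem mul_formula (h : Hyp p Q) [Fintype Q]
    [Fintype (IrrCharacter (Subgroup.centralizer (Q : Set G)))]
    (n : IrrCharacter (Subgroup.centralizer (Q : Set G)) → ℕ)
    (L : IrrCharacter (Subgroup.centralizer (Q : Set G)) → (Q →* ℂˣ))
    (hL : ∀ η : IrrCharacter (Subgroup.centralizer (Q : Set G)), Over h (η : Subgroup.centralizer (Q : Set G) → ℂ) (L η))
    {f : Subgroup.centralizer (Q : Set G) → ℂ}
    (hf : f = ∑ η : IrrCharacter (Subgroup.centralizer (Q : Set G)),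
      n η • (η : Subgroup.centralizer (Q : Set G) → ℂ)) (l : Q →* ℂˣ) :
    classInner (fun x : Q => f ⟨x, h.le x.2⟩) (fun x : Q => (l x : ℂ)) =
      ∑ η : IrrCharacter (Subgroup.centralizer (Q : Set G)),
        if L η = l then (n η : ℂ) * (η : Subgroup.centralizer (Q : Set G) → ℂ) 1 else 0 := by
  have h1 : (fun x : Q => f ⟨x, h.le x.2⟩) =
      ∑ η : IrrCharacter (Subgroup.centralizer (Q : Set G)),
        (n η : ℂ) • fun x : Q => (η : Subgroup.centralizer (Q : Set G) → ℂ) ⟨x, h.le x.2⟩ := by
    funext x
    rw [hf, Finset.sum_apply, Finset.sum_apply]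
    refine Finset.sum_congr rfl fun η _ => ?_
    simp
  rw [h1, classInner_sum_left]
  refine Finset.sum_congr rfl fun η _ => ?_
  rw [classInner_smul_left, res_inner h (hL η)]
  split_ifs <;> simp

open Classical in
/-- If `l` occurs in `f` then some irreducible character of `C` over `l` occurs in `f`, and if it
does not occur then none does. -/
theorem over_of_mul [Finite G] (h : Hyp p Q) [Fintype Q] [Fintype (Subgroup.centralizer (Q : Set G))]
    {f : Subgroup.centralizer (Q : Set G) → ℂ} (hf : IsCharacter _ f) (l : Q →* ℂˣ) :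
    (classInner (fun x : Q => f ⟨x, h.le x.2⟩) (fun x : Q => (l x : ℂ)) ≠ 0 →
      ∃ η : Subgroup.centralizer (Q : Set G) → ℂ, IsIrrCharacter _ η ∧ Over h η l ∧
        ∃ n : ℕ, 0 < n ∧ classInner f η = n) ∧
    (classInner (fun x : Q => f ⟨x, h.le x.2⟩) (fun x : Q => (l x : ℂ)) = 0 →
      ∀ η : Subgroup.centralizer (Q : Set G) → ℂ, IsIrrCharacter _ η → Over h η l →
        classInner f η = 0) := by
  have hfin : Finite (IrrCharacter (Subgroup.centralizer (Q : Set G))) := finite_irr
  have : Fintype (IrrCharacter (Subgroup.centralizer (Q : Set G))) := Fintype.ofFinite _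
  obtain ⟨n, hn⟩ := exists_nat_comb hf
  choose L hL using fun η : IrrCharacter (Subgroup.centralizer (Q : Set G)) =>
    exists_over h η.2
  have key := mul_formula h n L hL hn l
  choose d hdpos hd using fun η : IrrCharacter (Subgroup.centralizer (Q : Set G)) =>
    isIrr_apply_one η.2
  have hcoef : ∀ η : IrrCharacter (Subgroup.centralizer (Q : Set G)),
      classInner f (η : Subgroup.centralizer (Q : Set G) → ℂ) = n η := by
    intro η
    rw [hn]
    exact classInner_sum_nsmul_irr n η
  constructor
  · intro hne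
    rw [key] at hne
    obtain ⟨η, -, hη⟩ := Finset.exists_ne_zero_of_sum_ne_zero hne
    have hLη : L η = l := by
      by_contra hc
      rw [if_neg hc] at hη
      exact hη rfl
    rw [if_pos hLη] at hη
    refine ⟨η, η.2, hLη ▸ hL η, n η, ?_, hcoef η⟩
    rcases Nat.eq_zero_or_pos (n η) with h0 | h0
    · rw [h0] at hη
      simp at hη
    · exact h0
  · intro h0 η hη hηl
    rw [key] at h0
    have h1 : ((∑ η : IrrCharacter (Subgroup.centralizer (Q : Set G)),
        if L η = l then n η * d η else 0 : ℕ) : ℂ) = 0 := by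
      rw [← h0]
      push_cast
      refine Finset.sum_congr rfl fun η _ => ?_
      split_ifs
      · rw [hd η]
      · rfl
    have h2 : (∑ η : IrrCharacter (Subgroup.centralizer (Q : Set G)),
        if L η = l then n η * d η else 0) = 0 := by exact_mod_cast h1
    rw [Finset.sum_eq_zero_iff] at h2
    have h3 := h2 ⟨η, hη⟩ (Finset.mem_univ _)
    have h4 : L ⟨η, hη⟩ = l :=
      Over.unique h (isIrr_apply_one_ne_zero hη) (hL ⟨η, hη⟩) hηl
    rw [if_pos h4] at h3
    have h5 : n ⟨η, hη⟩ = 0 := by
      rcases Nat.mul_eq_zero.1 h3 with h6 | h6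
      · exact h6
      · exact absurd h6 (hdpos ⟨η, hη⟩).ne'
    have h6 := hcoef ⟨η, hη⟩
    rw [h5] at h6
    simpa using h6

end res

end Cfsg.Agent.H603.Mult
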