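import Mathlib

set_option autoImplicit false

/-!
# An element of order seven does not act on an elementary abelian group of order eight in PSL_4

`no_frob`: `k` a finite field of odd characteristic, `E ≤ PSL_4(k)` elementary abelian of order 8,
normalized by `x`, `x ^ 7` centralizes `E`; then `x` centralizes `E`.  (Task 36, for S5117.)
-/

namespace Cfsg.Agent.H603.NoFrob

open Matrix Module

/-- Commuting involutory matrices over an algebraically closed field of odd characteristic have a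
joint eigenbasis. -/
theorem exists_joint_basis {K : Type*} [Field K] [IsAlgClosed K] (h2 : (2 : K) ≠ 0) {E : Type*}
    (N : E → Matrix (Fin 4) (Fin 4) K) (hsq : ∀ e, N e * N e = 1)
    (hc : ∀ e f, N e * N f = N f * N e) :
    ∃ (b : Basis (Fin 4) K (Fin 4 → K)) (χ : E → Fin 4 → K),
      ∀ e i, (N e) *ᵥ (b i) = χ e i • b i := by
  classical
  let f : E → Module.End K (Fin 4 → K) := fun e => Matrix.toLin' (N e)
  have hff : ∀ e, f e * f e = 1 := by
    intro e
    have : Matrix.toLin' (N e * N e) = 1 := by rw [hsq e, Matrix.toLin'_one]; rfl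
    rw [Matrix.toLin'_mul] at this
    exact this
  have hcomm : Pairwise fun i j => Commute (f i) (f j) := by
    intro e g _
    show f e * f g = f g * f e
    have : Matrix.toLin' (N e * N g) = Matrix.toLin' (N g * N e) := by rw [hc e g]
    rw [Matrix.toLin'_mul, Matrix.toLin'_mul] at this
    exact this
  have hss : ∀ e, (f e).IsSemisimple := by
    intro e
    have hsep : (Polynomial.X ^ 2 - 1 : Polynomial K).Separable := by
      have := Polynomial.separable_X_pow_sub_C (F := K) (1 : K) (n := 2) (by exact_mod_cast h2)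
        one_ne_zero
      simpa using this
    refine Module.End.isSemisimple_of_squarefree_aeval_eq_zero hsep.squarefree ?_
    simp only [map_sub, map_pow, Polynomial.aeval_X, map_one]
    rw [pow_two, hff e, sub_self]
  have htop := Module.End.iSup_iInf_maxGenEigenspace_eq_top_of_iSup_maxGenEigenspace_eq_top_of_commute
    f hcomm (fun e => Module.End.iSup_maxGenEigenspace_eq_top (f e))
  let S : Set (Fin 4 → K) := {v | ∀ e, ∃ c : K, (N e) *ᵥ v = c • v}
  have hspan : ⊤ ≤ Submodule.span K S := by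
    rw [← htop]
    refine iSup_le fun χ => ?_
    intro v hv
    refine Submodule.subset_span ?_
    intro e
    refine ⟨χ e, ?_⟩
    have h1 : v ∈ (f e).maxGenEigenspace (χ e) := (Submodule.mem_iInf _).1 hv e
    rw [(hss e).isFinitelySemisimple.maxGenEigenspace_eq_eigenspace] at h1
    exact Module.End.mem_eigenspace_iff.1 h1
  obtain ⟨ι, b0, hb0⟩ : ∃ (ι : Type _) (b : Basis ι K (Fin 4 → K)), ∀ i, b i ∈ S :=
    ⟨_, Basis.ofSpan hspan, fun i => Basis.ofSpan_subset hspan ⟨i, rfl⟩⟩
  have hcard : Nat.card ι = 4 := by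
    rw [← Module.finrank_eq_nat_card_basis b0]
    simp
  have : Finite ι := Nat.finite_of_card_ne_zero (by rw [hcard]; norm_num)
  have eqv := (Finite.equivFinOfCardEq hcard)
  have hb : ∀ i, (b0.reindex eqv) i ∈ S := by
    intro i
    rw [Basis.reindex_apply]
    exact hb0 _
  choose χ hχ using hb
  exact ⟨b0.reindex eqv, fun e i => χ i e, fun e i => hχ i e⟩

theorem eq_smul_one_of_joint {K : Type*} [Field K] (b : Basis (Fin 4) K (Fin 4 → K))
    (A : Matrix (Fin 4) (Fin 4) K) (c : K) (h : ∀ i, A *ᵥ b i = c • b i) : A = c • 1 := by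
  have h1 : Matrix.toLin' A = Matrix.toLin' (c • (1 : Matrix (Fin 4) (Fin 4) K)) := by
    refine b.ext fun i => ?_
    rw [Matrix.toLin'_apply, h i, Matrix.toLin'_apply, Matrix.smul_mulVec, Matrix.one_mulVec]
  exact Matrix.toLin'.injective h1

theorem trace_joint {K : Type*} [Field K] (b : Basis (Fin 4) K (Fin 4 → K))
    (A : Matrix (Fin 4) (Fin 4) K) (c : Fin 4 → K) (h : ∀ i, A *ᵥ b i = c i • b i) :
    A.trace = ∑ i, c i := by
  have h1 : LinearMap.trace K _ (Matrix.toLin' A) = A.trace := by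
    rw [Matrix.trace_toLin'_eq]
  rw [← h1, LinearMap.trace_eq_matrix_trace K b, Matrix.trace]
  refine Finset.sum_congr rfl fun i _ => ?_
  rw [Matrix.diag_apply, LinearMap.toMatrix_apply, Matrix.toLin'_apply, h i]
  simp

/-- The trace of a non-scalar involution. -/
theorem sign_sum (ε : Fin 4 → ℤ) (hε : ∀ i, ε i = 1 ∨ ε i = -1) (h1 : ¬ ∀ i, ε i = 1)
    (h2 : ¬ ∀ i, ε i = -1) : (∑ i, ε i) = 0 ∨ (∑ i, ε i) = 2 ∨ (∑ i, ε i) = -2 := by
  rw [Fin.sum_univ_four]
  simp only [Fin.forall_fin_succ, Fin.isValue, IsEmpty.forall_iff, and_true] at h1 h2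
  rcases hε 0 with a0 | a0 <;> rcases hε 1 with a1 | a1 <;> rcases hε 2 with a2 | a2 <;>
    rcases hε 3 with a3 | a3 <;> simp_all

/-- Sum of a sign character over a finite group. -/
theorem sum_sign {E : Type*} [Group E] [Fintype E] (h : E → ℤ) (hs : ∀ e, h e = 1 ∨ h e = -1)
    (hm : ∀ e f, h (e * f) = h e * h f) :
    (∑ e, h e) = 0 ∨ (∑ e, h e) = Fintype.card E := by
  by_cases hx : ∃ f, h f = -1
  · obtain ⟨f, hf⟩ := hx
    left
    have h1 : ∑ e, h (f * e) = ∑ e, h e :=
      Fintype.sum_bijective (fun e => f * e) (Group.mulLeft_bijective f) _ _ (fun _ => rfl)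
    simp only [hm, hf, neg_mul, one_mul, Finset.sum_neg_distrib] at h1
    linarith
  · right
    push Not at hx
    have : ∀ e, h e = 1 := fun e => (hs e).resolve_right (hx e)
    simp [this]

theorem sign_mul_aux {K : Type*} [Field K] (hne : (1 : K) ≠ -1) {u v : ℤ}
    (hu : u = 1 ∨ u = -1) (hv : v = 1 ∨ v = -1) (h : (u : K) = v) : u = v := by
  rcases hu with rfl | rfl <;> rcases hv with rfl | rfl
  · rfl
  · exact absurd (by push_cast at h; exact h) hne
  · exact absurd (by push_cast at h; exact h.symm) hne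
  · rfl

theorem sign_mul {u v : ℤ} (hu : u = 1 ∨ u = -1) (hv : v = 1 ∨ v = -1) :
    u * v = 1 ∨ u * v = -1 := by
  rcases hu with rfl | rfl <;> rcases hv with rfl | rfl <;> simp

/-- The counting argument: eight commuting involutory matrices (up to scalars a group), all
nonscalar except the first one, whose traces are all zero or all nonzero, do not exist. -/
theorem count {E : Type*} [Group E] [Fintype E] (hE : Fintype.card E = 8) {K : Type*} [Field K]
    [IsAlgClosed K] (h2 : (2 : K) ≠ 0) (N : E → Matrix (Fin 4) (Fin 4) K)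
    (hsq : ∀ e, N e * N e = 1) (hc : ∀ e f, N e * N f = N f * N e)
    (hmul : ∀ e f, ∃ μ : K, N (e * f) = μ • (N e * N f))
    (hns : ∀ e, e ≠ 1 → ∀ c : K, N e ≠ c • 1)
    (htr : (∀ e, e ≠ 1 → (N e).trace = 0) ∨ (∀ e, e ≠ 1 → (N e).trace ≠ 0)) : False := by
  classical
  obtain ⟨b, χ, hχ⟩ := exists_joint_basis h2 N hsq hc
  have hbi : ∀ (i : Fin 4) (c d : K), c • b i = d • b i → c = d := fun i c d h =>
    smul_left_injective K (b.ne_zero i) h
  have hχsq : ∀ e i, χ e i * χ e i = 1 := by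
    intro e i
    apply hbi i
    rw [mul_smul, one_smul, ← hχ e i, ← Matrix.mulVec_smul, ← hχ e i, Matrix.mulVec_mulVec, hsq e,
      Matrix.one_mulVec]
  have hχ1 : ∀ e i, χ e i = 1 ∨ χ e i = -1 := fun e i => mul_self_eq_one_iff.1 (hχsq e i)
  have hχmul : ∀ e f i j, χ (e * f) i * χ (e * f) j = (χ e i * χ e j) * (χ f i * χ f j) := by
    intro e f i j
    obtain ⟨μ, hμ⟩ := hmul e f
    have h1 : ∀ i, χ (e * f) i = μ * (χ e i * χ f i) := by
      intro i
      apply hbi i
      rw [← hχ, hμ, Matrix.smul_mulVec, ← Matrix.mulVec_mulVec, hχ f i, Matrix.mulVec_smul, hχ e i,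
        smul_smul, smul_smul]
      ring_nf
    have h3 : μ * μ = 1 := by
      have := hχsq (e * f) i
      rw [h1 i] at this
      calc μ * μ = μ * μ * ((χ e i * χ e i) * (χ f i * χ f i)) := by
            rw [hχsq, hχsq]; ring
        _ = μ * (χ e i * χ f i) * (μ * (χ e i * χ f i)) := by ring
        _ = 1 := this
    rw [h1 i, h1 j]
    calc μ * (χ e i * χ f i) * (μ * (χ e j * χ f j))
        = (μ * μ) * ((χ e i * χ e j) * (χ f i * χ f j)) := by ring
      _ = _ := by rw [h3, one_mul]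
  have hne : (1 : K) ≠ -1 := by
    intro h
    apply h2
    have : (1 : K) + 1 = 0 := by
      nth_rewrite 1 [h]
      ring
    rw [← this]; norm_num
  let ε : E → Fin 4 → ℤ := fun e i => if χ e i = 1 then 1 else -1
  have hε : ∀ e i, ε e i = 1 ∨ ε e i = -1 := by
    intro e i
    by_cases h : χ e i = 1
    · left; simp [ε, h]
    · right; simp [ε, h]
  have hεc : ∀ e i, ((ε e i : ℤ) : K) = χ e i := by
    intro e i
    rcases hχ1 e i with h | h
    · simp [ε, h]
    · have : χ e i ≠ 1 := by rw [h]; exact fun h' => hne h'.symm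
      simp [ε, this]
      exact h.symm
  have hεmul : ∀ e f i j, ε (e * f) i * ε (e * f) j = (ε e i * ε e j) * (ε f i * ε f j) := by
    intro e f i j
    have h1 := hχmul e f i j
    rw [← hεc, ← hεc, ← hεc, ← hεc, ← hεc, ← hεc] at h1
    refine sign_mul_aux hne (sign_mul (hε _ _) (hε _ _))
      (sign_mul (sign_mul (hε _ _) (hε _ _)) (sign_mul (hε _ _) (hε _ _))) ?_
    push_cast
    exact h1
  -- the sums over the group
  have hS : ∀ i j, ∃ m : ℕ, (∑ e, ε e i * ε e j) = 8 * (m : ℤ) := by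
    intro i j
    have := sum_sign (fun e => ε e i * ε e j) (fun e => sign_mul (hε _ _) (hε _ _))
      (fun e f => hεmul e f i j)
    rw [hE] at this
    rcases this with h | h
    · exact ⟨0, by rw [h]; simp⟩
    · exact ⟨1, by rw [h]; simp⟩
  have hSd : ∀ i, (∑ e, ε e i * ε e i) = 8 := by
    intro i
    have : ∀ e, ε e i * ε e i = 1 := fun e => by
      rcases hε e i with a | a <;> simp [a]
    rw [Finset.sum_congr rfl (fun e _ => this e)]
    simp [hE]
  have hexp : ∑ e, (∑ i, ε e i) ^ 2 = ∑ i, ∑ j, ∑ e, ε e i * ε e j := by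
    have : ∀ e, (∑ i, ε e i) ^ 2 = ∑ i, ∑ j, ε e i * ε e j := by
      intro e
      rw [pow_two, Finset.sum_mul_sum]
    rw [Finset.sum_congr rfl (fun e _ => this e), Finset.sum_comm]
    refine Finset.sum_congr rfl fun i _ => ?_
    rw [Finset.sum_comm]
  -- the values of the traces
  have htre : ∀ e, ((∑ i, ε e i : ℤ) : K) = (N e).trace := by
    intro e
    rw [trace_joint b (N e) (χ e) (hχ e)]
    push_cast
    exact Finset.sum_congr rfl fun i _ => hεc e i
  have hval : ∀ e, e ≠ 1 → (∑ i, ε e i) = 0 ∨ (∑ i, ε e i) = 2 ∨ (∑ i, ε e i) = -2 := by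
    intro e he
    refine sign_sum _ (hε e) ?_ ?_
    · intro h
      refine hns e he 1 (eq_smul_one_of_joint b _ 1 fun i => ?_)
      rw [hχ e i, ← hεc, h i]; simp
    · intro h
      refine hns e he (-1) (eq_smul_one_of_joint b _ (-1) fun i => ?_)
      rw [hχ e i, ← hεc, h i]; simp
  have hone : (∑ i, ε 1 i) ^ 2 = 16 := by
    obtain ⟨μ, hμ⟩ := hmul 1 1
    rw [mul_one, hsq] at hμ
    have h1 : ∀ i, χ 1 i = μ := by
      intro i
      apply hbi i
      rw [← hχ, hμ, Matrix.smul_mulVec, Matrix.one_mulVec]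
    have h3 : ∀ i, ε 1 i = ε 1 0 := by
      intro i
      simp only [ε, h1]
    rw [Finset.sum_congr rfl (fun i _ => h3 i)]
    rcases hε 1 0 with a | a <;> simp [a]
  have hsum : ∑ e, (∑ i, ε e i) ^ 2 = 16 ∨ ∑ e, (∑ i, ε e i) ^ 2 = 44 := by
    have hsplit : ∑ e, (∑ i, ε e i) ^ 2 = (∑ i, ε 1 i) ^ 2 +
        ∑ e ∈ Finset.univ.erase (1 : E), (∑ i, ε e i) ^ 2 :=
      (Finset.add_sum_erase _ _ (Finset.mem_univ _)).symm
    have hce : (Finset.univ.erase (1 : E)).card = 7 := by
      rw [Finset.card_erase_of_mem (Finset.mem_univ _), Finset.card_univ, hE]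
    rcases htr with h | h
    · left
      rw [hsplit, hone, Finset.sum_eq_zero]
      · norm_num
      · intro e he
        have he1 := Finset.ne_of_mem_erase he
        have h0 := htre e
        rw [h e he1] at h0
        rcases hval e he1 with a | a | a
        · rw [a]; norm_num
        · rw [a] at h0; exact absurd (by exact_mod_cast h0) h2
        · rw [a] at h0
          exfalso; apply h2
          have : (-2 : K) = 0 := by exact_mod_cast h0
          rw [← neg_eq_zero]; exact this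
    · right
      rw [hsplit, hone, Finset.sum_congr rfl (g := fun _ => (4 : ℤ))]
      · simp [hce]
      · intro e he
        have he1 := Finset.ne_of_mem_erase he
        rcases hval e he1 with a | a | a
        · exfalso
          apply h e he1
          rw [← htre e, a]; simp
        · rw [a]; norm_num
        · rw [a]; norm_num
  have hcalc : ∑ e, (∑ i, ε e i) ^ 2 = ∑ i, ∑ j, ∑ e, ε e i * ε e j := hexp
  have hd0 := hSd 0
  have hd1 := hSd 1
  have hd2 := hSd 2
  have hd3 := hSd 3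
  simp only [Fin.sum_univ_four] at hcalc hsum
  rw [hcalc] at hsum
  obtain ⟨m1, o1⟩ := hS 0 1
  obtain ⟨m2, o2⟩ := hS 0 2
  obtain ⟨m3, o3⟩ := hS 0 3
  obtain ⟨m4, o4⟩ := hS 1 0
  obtain ⟨m5, o5⟩ := hS 1 2
  obtain ⟨m6, o6⟩ := hS 1 3
  obtain ⟨m7, o7⟩ := hS 2 0
  obtain ⟨m8, o8⟩ := hS 2 1
  obtain ⟨m9, o9⟩ := hS 2 3
  obtain ⟨m10, o10⟩ := hS 3 0
  obtain ⟨m11, o11⟩ := hS 3 1
  obtain ⟨m12, o12⟩ := hS 3 2
  rw [hd0, hd1, hd2, hd3, o1, o2, o3, o4, o5, o6, o7, o8, o9, o10, o11, o12] at hsum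
  omega

section Comm

variable {E : Type*} [Group E] {K : Type*} [Field K]

/-- The elements whose matrices commute with the matrix of `e`. -/
def Z (N : E → Matrix (Fin 4) (Fin 4) K) (hexp : ∀ e : E, e * e = 1)
    (hsq : ∀ e, N e * N e = 1)
    (hmul : ∀ e f, ∃ μ : K, N (e * f) = μ • (N e * N f)) (e : E) : Subgroup E where
  carrier := {f | N e * N f = N f * N e}
  one_mem' := by
    obtain ⟨μ, hμ⟩ := hmul 1 1
    rw [mul_one, hsq] at hμ
    show N e * N 1 = N 1 * N e
    rw [hμ]; simp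
  mul_mem' := by
    intro f g hf hg
    obtain ⟨μ, hμ⟩ := hmul f g
    show N e * N (f * g) = N (f * g) * N e
    have hf' : N e * N f = N f * N e := hf
    have hg' : N e * N g = N g * N e := hg
    rw [hμ, mul_smul_comm, smul_mul_assoc, ← mul_assoc, hf', mul_assoc, hg', mul_assoc]
  inv_mem' := by
    intro f hf
    have : f⁻¹ = f := inv_eq_of_mul_eq_one_left (hexp f)
    rw [this]; exact hf

theorem mem_Z {N : E → Matrix (Fin 4) (Fin 4) K} {hexp : ∀ e : E, e * e = 1}
    {hsq : ∀ e, N e * N e = 1} {hmul : ∀ e f, ∃ μ : K, N (e * f) = μ • (N e * N f)} {e f : E} :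
    f ∈ Z N hexp hsq hmul e ↔ N e * N f = N f * N e := Iff.rfl

theorem comm_sign (N : E → Matrix (Fin 4) (Fin 4) K) (hexp : ∀ e : E, e * e = 1)
    (hsq : ∀ e, N e * N e = 1)
    (hmul : ∀ e f, ∃ μ : K, N (e * f) = μ • (N e * N f)) (e f : E)
    (h : N e * N f ≠ N f * N e) : N e * N f = - (N f * N e) := by
  have hef : e * f = f * e := by
    have h1 := hexp (e * f)
    have he : e⁻¹ = e := inv_eq_of_mul_eq_one_left (hexp e)
    have hf : f⁻¹ = f := inv_eq_of_mul_eq_one_left (hexp f)
    calc e * f = (e * f)⁻¹ := (inv_eq_of_mul_eq_one_left h1).symm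
      _ = f * e := by rw [_root_.mul_inv_rev, he, hf]
  obtain ⟨μ, hμ⟩ := hmul e f
  obtain ⟨ν, hν⟩ := hmul f e
  rw [hef, hν] at hμ
  have hN0 : N (f * e) ≠ 0 := by
    intro h0
    have := hsq (f * e)
    rw [h0, zero_mul] at this
    exact zero_ne_one this
  have hμ0 : μ ≠ 0 := by
    rintro rfl
    rw [zero_smul] at hμ
    exact hN0 (hν.trans hμ)
  obtain ⟨s, hs⟩ : ∃ s : K, N e * N f = s • (N f * N e) := by
    refine ⟨μ⁻¹ * ν, ?_⟩
    rw [mul_smul, hμ, smul_smul, inv_mul_cancel₀ hμ0, one_smul]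
  have hss : s * s = 1 := by
    have h1 : N f = (s * s) • N f := by
      calc N f = N e * N e * N f := by rw [hsq, one_mul]
        _ = N e * (N e * N f) := by rw [mul_assoc]
        _ = s • (N e * N f * N e) := by rw [hs, mul_smul_comm, ← mul_assoc, hs]
        _ = (s * s) • (N f * (N e * N e)) := by rw [hs, smul_mul_assoc, smul_smul, mul_assoc]
        _ = (s * s) • N f := by rw [hsq, mul_one]
    have h3 : (1 : Matrix (Fin 4) (Fin 4) K) = (s * s) • 1 := by
      have := congrArg (· * N f) h1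
      simp only [smul_mul_assoc, hsq] at this
      exact this
    have h4 := congrFun (congrFun h3 0) 0
    simpa using h4.symm
  rcases mul_self_eq_one_iff.1 hss with rfl | rfl
  · rw [one_smul] at hs; exact absurd hs h
  · rw [hs, neg_one_smul]

theorem comm_all [Fintype E] (hE : Fintype.card E = 8)
    (N : E → Matrix (Fin 4) (Fin 4) K) (hexp : ∀ e : E, e * e = 1)
    (hsq : ∀ e, N e * N e = 1)
    (hmul : ∀ e f, ∃ μ : K, N (e * f) = μ • (N e * N f))
    (σ : Equiv.Perm E) (X Y : Matrix (Fin 4) (Fin 4) K) (hXY : Y * X = 1)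
    (hσ : ∀ g, ∃ μ : K, μ ≠ 0 ∧ N (σ g) = μ • (X * N g * Y))
    (htrans : ∀ e f : E, e ≠ 1 → f ≠ 1 → ∃ i : ℕ, (σ ^ i) e = f) :
    ∀ e f, N e * N f = N f * N e := by
  classical
  by_contra hcon
  push Not at hcon
  obtain ⟨e, f, hef⟩ := hcon
  set ZZ := Z N hexp hsq hmul with hZZ
  have hself : ∀ g, g ∈ ZZ g := fun g => rfl
  have hsymm : ∀ g h, g ∈ ZZ h → h ∈ ZZ g := fun g h hh => (mem_Z.1 hh).symm
  have hfe : f ∉ ZZ e := hef
  have hef' : e ∉ ZZ f := fun h => hfe (hsymm _ _ h)
  have hindex : ∀ a b : E, b ∉ ZZ a → (ZZ a).index = 2 := by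
    intro a b hb
    rw [Subgroup.index_eq_two_iff]
    refine ⟨b, fun c => ?_⟩
    by_cases hc : c ∈ ZZ a
    · right
      refine ⟨hc, fun h => hb ?_⟩
      exact (Subgroup.mul_mem_cancel_left _ hc).1 h
    · left
      refine ⟨?_, hc⟩
      obtain ⟨μ, hμ⟩ := hmul c b
      have h1 := comm_sign N hexp hsq hmul a c hc
      have h2 := comm_sign N hexp hsq hmul a b hb
      refine mem_Z.2 ?_
      rw [hμ, mul_smul_comm, smul_mul_assoc, ← mul_assoc, h1, neg_mul, mul_assoc, h2, mul_neg,
        neg_neg, mul_assoc]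
  have hi1 := hindex e f hfe
  have hi2 := hindex f e hef'
  have hinf : (ZZ e ⊓ ZZ f).index ≤ 4 := by
    have := Subgroup.index_inf_le (H := ZZ e) (K := ZZ f)
    rw [hi1, hi2] at this
    exact this
  have hcard : 2 ≤ Nat.card ↥(ZZ e ⊓ ZZ f) := by
    have h1 := Subgroup.card_mul_index (ZZ e ⊓ ZZ f)
    rw [Nat.card_eq_fintype_card (α := E), hE] at h1
    by_contra hlt
    have h2 : Nat.card ↥(ZZ e ⊓ ZZ f) ≤ 1 := by omega
    have h3 := Nat.mul_le_mul h2 hinf
    omega
  obtain ⟨g, hg, hg1⟩ : ∃ g ∈ ZZ e ⊓ ZZ f, g ≠ 1 := by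
    by_contra hno
    push Not at hno
    have : ZZ e ⊓ ZZ f = ⊥ := (Subgroup.eq_bot_iff_forall _).2 hno
    rw [this] at hcard
    simp at hcard
  have hge : g ∈ ZZ e := hg.1
  have hgf : g ∈ ZZ f := hg.2
  have he1 : e ≠ 1 := by rintro rfl; exact hef' (ZZ f).one_mem
  have hf1 : f ≠ 1 := by rintro rfl; exact hfe (ZZ e).one_mem
  have hne : e ≠ f := by rintro rfl; exact hfe (hself _)
  have hfef : e * f ∉ ZZ e := fun h => hfe ((Subgroup.mul_mem_cancel_left _ (hself e)).1 h)
  have htopg : ZZ g = ⊤ := by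
    have h5 : 5 ≤ Nat.card ↥(ZZ g) := by
      have hsub : (({1, e, f, e * f, g} : Finset E) : Set E) ⊆ (ZZ g : Set E) := by
        intro y hy
        simp only [Finset.coe_insert, Finset.coe_singleton, Set.mem_insert_iff,
          Set.mem_singleton_iff] at hy
        rcases hy with rfl | rfl | rfl | rfl | rfl
        · exact (ZZ g).one_mem
        · exact hsymm _ _ hge
        · exact hsymm _ _ hgf
        · exact (ZZ g).mul_mem (hsymm _ _ hge) (hsymm _ _ hgf)
        · exact hself _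
      have hc5 : ({1, e, f, e * f, g} : Finset E).card = 5 := by
        have hef1 : e * f ≠ 1 := fun h => hne (by
          have : e = f⁻¹ := eq_inv_of_mul_eq_one_left h
          rw [this]; exact inv_eq_of_mul_eq_one_left (hexp f))
        have hge' : g ≠ e := by rintro rfl; exact hef' hgf
        have hgf' : g ≠ f := by rintro rfl; exact hfe hge
        have hgef : g ≠ e * f := by rintro rfl; exact hfef hge
        rw [Finset.card_insert_of_notMem, Finset.card_insert_of_notMem,
          Finset.card_insert_of_notMem, Finset.card_insert_of_notMem, Finset.card_singleton]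
        · simp only [Finset.mem_singleton]; exact hgef.symm
        · simp only [Finset.mem_insert, Finset.mem_singleton, not_or]
          exact ⟨fun h => he1 (by simpa using h.symm), hgf'.symm⟩
        · simp only [Finset.mem_insert, Finset.mem_singleton, not_or]
          exact ⟨hne, fun h => hf1 (by simpa using h.symm), hge'.symm⟩
        · simp only [Finset.mem_insert, Finset.mem_singleton, not_or]
          exact ⟨he1.symm, hf1.symm, hef1.symm, hg1.symm⟩
      rw [← hc5, ← Set.ncard_coe_finset]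
      exact (Set.ncard_le_ncard hsub (Set.toFinite _)).trans
        (Nat.card_coe_set_eq (ZZ g : Set E)).symm.le
    have hdvd : Nat.card ↥(ZZ g) ∣ 8 := by
      have := Subgroup.card_subgroup_dvd_card (ZZ g)
      rwa [Nat.card_eq_fintype_card (α := E), hE] at this
    have h8 : Nat.card ↥(ZZ g) = 8 := by
      have hle := Nat.le_of_dvd (by norm_num) hdvd
      interval_cases h : Nat.card ↥(ZZ g) <;> omega
    apply Subgroup.eq_top_of_card_eq
    rw [h8, Nat.card_eq_fintype_card, hE]
  -- propagate along σ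
  have hstep : ∀ a, ZZ a = ⊤ → ZZ (σ a) = ⊤ := by
    intro a ha
    rw [eq_top_iff]
    intro b _
    obtain ⟨c, rfl⟩ := σ.surjective b
    have hc : N a * N c = N c * N a := by
      have : c ∈ ZZ a := by rw [ha]; trivial
      exact this
    obtain ⟨μ, _, hμ⟩ := hσ a
    obtain ⟨ν, _, hν⟩ := hσ c
    refine mem_Z.2 ?_
    rw [hμ, hν]
    have e1 : X * N a * Y * (X * N c * Y) = X * (N a * N c) * Y := by
      calc X * N a * Y * (X * N c * Y) = X * N a * (Y * X) * N c * Y := by noncomm_ring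
        _ = _ := by rw [hXY]; noncomm_ring
    have e2 : X * N c * Y * (X * N a * Y) = X * (N c * N a) * Y := by
      calc X * N c * Y * (X * N a * Y) = X * N c * (Y * X) * N a * Y := by noncomm_ring
        _ = _ := by rw [hXY]; noncomm_ring
    rw [smul_mul_smul_comm, smul_mul_smul_comm, e1, e2, hc, mul_comm μ ν]
  have hpow : ∀ i : ℕ, ZZ ((σ ^ i) g) = ⊤ := by
    intro i
    induction i with
    | zero => simpa using htopg
    | succ n ih =>
      rw [pow_succ', Equiv.Perm.mul_apply]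
      exact hstep _ ih
  obtain ⟨i, hi⟩ := htrans g e hg1 he1
  have := hpow i
  rw [hi] at this
  exact hfe (by rw [this]; trivial)

end Comm

section Main

variable {k : Type*} [Field k]

/-- Two matrices with the same image in `PSL_4` differ by a nonzero scalar. -/
theorem lift_eq (P Q : SpecialLinearGroup (Fin 4) k)
    (h : (QuotientGroup.mk P : ProjectiveSpecialLinearGroup (Fin 4) k) = QuotientGroup.mk Q) :
    ∃ r : k, r ≠ 0 ∧ (P : Matrix (Fin 4) (Fin 4) k) = r • (Q : Matrix (Fin 4) (Fin 4) k) := by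
  have h1 := QuotientGroup.eq.1 h.symm
  obtain ⟨r, hr, hr'⟩ := Matrix.SpecialLinearGroup.mem_center_iff.1 h1
  refine ⟨r, ?_, ?_⟩
  · rintro rfl
    simp at hr
  · have h3 : P = Q * (Q⁻¹ * P) := by group
    have h4 : (P : Matrix (Fin 4) (Fin 4) k) = (Q : Matrix (Fin 4) (Fin 4) k) *
        ((Q⁻¹ * P : SpecialLinearGroup (Fin 4) k) : Matrix (Fin 4) (Fin 4) k) := by
      rw [← Matrix.SpecialLinearGroup.coe_mul, ← h3]
    rw [h4, ← hr', Matrix.scalar_apply, ← Matrix.smul_one_eq_diagonal, mul_smul_comm, mul_one]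

theorem no_frob {k : Type*} [Field k] [Finite k] (h2 : (2 : k) ≠ 0)
    (E : Subgroup (Matrix.ProjectiveSpecialLinearGroup (Fin 4) k)) (hE : Nat.card E = 8)
    (hE2 : ∀ e ∈ E, e * e = 1) (x : Matrix.ProjectiveSpecialLinearGroup (Fin 4) k)
    (hx : ∀ e ∈ E, x * e * x⁻¹ ∈ E) (hx7 : ∀ e ∈ E, x ^ 7 * e = e * x ^ 7) :
    ∀ e ∈ E, x * e = e * x := by
  classical
  have hfinE : Finite ↥E := Nat.finite_of_card_ne_zero (by rw [hE]; norm_num)
  have : Fintype ↥E := Fintype.ofFinite _
  have hE' : Fintype.card ↥E = 8 := by rw [← Nat.card_eq_fintype_card, hE]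
  -- the permutation induced by x
  let f : ↥E → ↥E := fun e => ⟨x * e * x⁻¹, hx e e.2⟩
  have hfinj : Function.Injective f := by
    intro a b hab
    have := congrArg Subtype.val hab
    simpa [f] using this
  let σ : Equiv.Perm ↥E := Equiv.ofBijective f (Finite.injective_iff_bijective.1 hfinj)
  have hσf : ∀ e, σ e = f e := fun e => rfl
  have hσpow : ∀ (i : ℕ) (e : ↥E), (((σ ^ i) e : ↥E) : ProjectiveSpecialLinearGroup (Fin 4) k)
      = x ^ i * e * (x ^ i)⁻¹ := by
    intro i
    induction i with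
    | zero => intro e; simp
    | succ n ih =>
      intro e
      rw [pow_succ', Equiv.Perm.mul_apply, hσf]
      show x * (((σ ^ n) e : ↥E) : ProjectiveSpecialLinearGroup (Fin 4) k) * x⁻¹ = _
      rw [ih, pow_succ']
      group
  have hσ7 : σ ^ 7 = 1 := by
    ext e
    rw [hσpow, hx7 e e.2, Equiv.Perm.one_apply, mul_assoc, mul_inv_cancel, mul_one]
  by_cases hσ1 : σ = 1
  · intro e he
    have h1 : σ ⟨e, he⟩ = ⟨e, he⟩ := by rw [hσ1]; rfl
    have h3 := congrArg Subtype.val h1
    have h4 : x * e * x⁻¹ = e := h3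
    calc x * e = x * e * x⁻¹ * x := by group
      _ = e * x := by rw [h4]
  exfalso
  have : Fact (Nat.Prime 7) := ⟨by norm_num⟩
  have hord : orderOf σ = 7 := orderOf_eq_prime hσ7 hσ1
  have hcyc : σ.IsCycle := Equiv.Perm.isCycle_of_prime_order' (by rw [hord]; norm_num)
    (by rw [hord, hE']; norm_num)
  have hσone : σ 1 = 1 := by
    apply Subtype.ext
    show x * (1 : ProjectiveSpecialLinearGroup (Fin 4) k) * x⁻¹ = 1
    group
  have hsupp : ∀ e : ↥E, e ≠ 1 → σ e ≠ e := by
    have hc7 : σ.support.card = 7 := by rw [← hcyc.orderOf, hord]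
    have hsub : σ.support ⊆ Finset.univ.erase 1 := by
      intro a ha
      rw [Finset.mem_erase]
      refine ⟨?_, Finset.mem_univ _⟩
      rintro rfl
      exact (Equiv.Perm.mem_support.1 ha) hσone
    have hc : (Finset.univ.erase (1 : ↥E)).card = 7 := by
      rw [Finset.card_erase_of_mem (Finset.mem_univ _), Finset.card_univ, hE']
    have heq := Finset.eq_of_subset_of_card_le hsub (by rw [hc, hc7])
    intro e he
    rw [← Equiv.Perm.mem_support, heq]
    exact Finset.mem_erase.2 ⟨he, Finset.mem_univ _⟩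
  have htrans : ∀ e f : ↥E, e ≠ 1 → f ≠ 1 → ∃ i : ℕ, (σ ^ i) e = f := by
    intro e g he hg
    obtain ⟨i, hi⟩ := (hcyc.sameCycle (hsupp e he) (hsupp g hg)).exists_pow_eq''
    exact ⟨i, hi.2.2⟩
  -- the lifts
  obtain ⟨A, hA⟩ : ∃ A : ↥E → SpecialLinearGroup (Fin 4) k, ∀ e,
      (QuotientGroup.mk (A e) : ProjectiveSpecialLinearGroup (Fin 4) k) = e :=
    ⟨fun e => Quotient.out (e : ProjectiveSpecialLinearGroup (Fin 4) k),
      fun e => QuotientGroup.out_eq' _⟩
  obtain ⟨X0, hX0⟩ := QuotientGroup.mk_surjective x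
  let K := AlgebraicClosure k
  let φ := algebraMap k K
  have hφ : Function.Injective φ := (algebraMap k K).injective
  have h2K : (2 : K) ≠ 0 := by
    intro h
    apply h2
    apply hφ
    rw [map_ofNat, map_zero, h]
  let M : ↥E → Matrix (Fin 4) (Fin 4) K := fun e => φ.mapMatrix (A e : Matrix (Fin 4) (Fin 4) k)
  have hMsq : ∀ e, ∃ c : K, c ≠ 0 ∧ M e * M e = c • 1 := by
    intro e
    obtain ⟨r, hr, hr'⟩ := lift_eq (A e * A e) 1 (by
      rw [QuotientGroup.mk_mul, hA, QuotientGroup.mk_one]; exact hE2 e e.2)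
    refine ⟨φ r, (map_ne_zero φ).2 hr, ?_⟩
    show φ.mapMatrix _ * φ.mapMatrix _ = _
    rw [← map_mul, ← Matrix.SpecialLinearGroup.coe_mul, hr', Matrix.SpecialLinearGroup.coe_one]
    ext i j
    by_cases h : i = j
    · subst h; simp
    · simp [h]
  choose c hc0 hc using hMsq
  have hs : ∀ e, ∃ s : K, s * s = c e := fun e => by
    obtain ⟨s, hs⟩ := IsAlgClosed.exists_pow_nat_eq (c e) (n := 2) (by norm_num)
    exact ⟨s, by rw [← pow_two]; exact hs⟩
  choose s hs using hs
  have hs0 : ∀ e, s e ≠ 0 := fun e h => hc0 e (by rw [← hs e, h, zero_mul])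
  let N : ↥E → Matrix (Fin 4) (Fin 4) K := fun e => (s e)⁻¹ • M e
  have hMN : ∀ e, M e = s e • N e := fun e => by
    show M e = s e • ((s e)⁻¹ • M e)
    rw [smul_smul, mul_inv_cancel₀ (hs0 e), one_smul]
  have hsq : ∀ e, N e * N e = 1 := by
    intro e
    show ((s e)⁻¹ • M e) * ((s e)⁻¹ • M e) = 1
    rw [smul_mul_smul_comm, hc, smul_smul, ← mul_inv, hs, inv_mul_cancel₀ (hc0 e), one_smul]
  have hmap : ∀ (P Q : Matrix (Fin 4) (Fin 4) k) (r : k), P = r • Q →
      φ.mapMatrix P = φ r • φ.mapMatrix Q := by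
    rintro P Q r rfl
    ext i j
    simp
  have hmul : ∀ e g, ∃ μ : K, N (e * g) = μ • (N e * N g) := by
    intro e g
    obtain ⟨r, hr, hr'⟩ := lift_eq (A (e * g)) (A e * A g) (by
      rw [QuotientGroup.mk_mul, hA, hA, hA]; rfl)
    have h1 : M (e * g) = φ r • (M e * M g) := by
      show φ.mapMatrix _ = _
      rw [hmap _ _ r hr', Matrix.SpecialLinearGroup.coe_mul, map_mul]
    refine ⟨(s (e * g))⁻¹ * (φ r * (s e * s g)), ?_⟩
    show (s (e * g))⁻¹ • M (e * g) = _
    rw [h1, hMN e, hMN g, smul_mul_smul_comm, smul_smul, smul_smul, mul_assoc]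
  have hns : ∀ e, e ≠ 1 → ∀ d : K, N e ≠ d • 1 := by
    intro e he d hd
    apply he
    have h1 : M e = (s e * d) • 1 := by rw [hMN e, hd, smul_smul]
    have h3 : ∀ i j, φ ((A e : Matrix (Fin 4) (Fin 4) k) i j) = if i = j then s e * d else 0 := by
      intro i j
      have := congrFun (congrFun h1 i) j
      simpa [M, Matrix.one_apply] using this
    have h4 : A e ∈ Subgroup.center (SpecialLinearGroup (Fin 4) k) := by
      rw [Matrix.SpecialLinearGroup.mem_center_iff]
      have h5 : Matrix.scalar (Fin 4) ((A e : Matrix (Fin 4) (Fin 4) k) 0 0) = A e := by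
        ext i j
        apply hφ
        by_cases h : i = j
        · subst h
          rw [Matrix.scalar_apply, Matrix.diagonal_apply_eq, h3, h3]; simp
        · rw [Matrix.scalar_apply, Matrix.diagonal_apply_ne _ h, h3]; simp [h]
      refine ⟨_, ?_, h5⟩
      have h6 := congrArg Matrix.det h5
      rw [(A e).det_coe] at h6
      simpa using h6
    have h5 : (QuotientGroup.mk (A e) : ProjectiveSpecialLinearGroup (Fin 4) k) = 1 :=
      (QuotientGroup.eq_one_iff _).2 h4
    rw [hA] at h5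
    exact Subtype.ext h5
  let X : Matrix (Fin 4) (Fin 4) K := φ.mapMatrix (X0 : Matrix (Fin 4) (Fin 4) k)
  let Y : Matrix (Fin 4) (Fin 4) K :=
    φ.mapMatrix ((X0⁻¹ : SpecialLinearGroup (Fin 4) k) : Matrix (Fin 4) (Fin 4) k)
  have hYX : Y * X = 1 := by
    show φ.mapMatrix _ * φ.mapMatrix _ = 1
    rw [← map_mul, ← Matrix.SpecialLinearGroup.coe_mul, inv_mul_cancel, Matrix.SpecialLinearGroup.coe_one,
      map_one]
  have hσN : ∀ g, ∃ μ : K, μ ≠ 0 ∧ N (σ g) = μ • (X * N g * Y) := by
    intro g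
    obtain ⟨r, hr, hr'⟩ := lift_eq (A (σ g)) (X0 * A g * X0⁻¹) (by
      rw [QuotientGroup.mk_mul, QuotientGroup.mk_mul, QuotientGroup.mk_inv, hA, hA, hX0]; rfl)
    have h1 : M (σ g) = φ r • (X * M g * Y) := by
      show φ.mapMatrix _ = _
      rw [hmap _ _ r hr', Matrix.SpecialLinearGroup.coe_mul, Matrix.SpecialLinearGroup.coe_mul, map_mul, map_mul]
    refine ⟨(s (σ g))⁻¹ * (φ r * s g), ?_, ?_⟩
    · exact mul_ne_zero (inv_ne_zero (hs0 _)) (mul_ne_zero ((map_ne_zero φ).2 hr) (hs0 _))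
    · show (s (σ g))⁻¹ • M (σ g) = _
      rw [h1, hMN g, mul_smul_comm, smul_mul_assoc, smul_smul, smul_smul, mul_assoc]
  have hexp : ∀ e : ↥E, e * e = 1 := fun e => Subtype.ext (hE2 e e.2)
  have hcomm := comm_all hE' N hexp hsq hmul σ X Y hYX hσN htrans
  have htr1 : ∀ g, (N (σ g)).trace = 0 ↔ (N g).trace = 0 := by
    intro g
    obtain ⟨μ, hμ0, hμ⟩ := hσN g
    rw [hμ, Matrix.trace_smul, Matrix.trace_mul_comm, ← mul_assoc, hYX, one_mul, smul_eq_mul,
      mul_eq_zero]
    exact ⟨fun h => h.resolve_left hμ0, Or.inr⟩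
  have htrp : ∀ (i : ℕ) (g : ↥E), (N ((σ ^ i) g)).trace = 0 ↔ (N g).trace = 0 := by
    intro i
    induction i with
    | zero => intro g; simp
    | succ n ih =>
      intro g
      rw [pow_succ', Equiv.Perm.mul_apply, htr1, ih]
  have htr : (∀ e, e ≠ 1 → (N e).trace = 0) ∨ (∀ e, e ≠ 1 → (N e).trace ≠ 0) := by
    by_cases h : ∃ e, e ≠ 1 ∧ (N e).trace = 0
    · left
      obtain ⟨e, he, h0⟩ := h
      intro g hg
      obtain ⟨i, rfl⟩ := htrans e g he hg
      exact (htrp i e).2 h0
    · right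
      push Not at h
      exact h
  exact count hE' h2K N hsq hcomm hmul hns htr

end Main

end Cfsg.Agent.H603.NoFrob
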