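import Cfsg.Agent.H603.Mult

/-!
# The action of the normalizer on the nontrivial linear characters
-/

set_option autoImplicit false

namespace Cfsg.Agent.H603.Orb

open Cfsg Cfsg.Agent.Characters.Core Cfsg.Agent.H603.Cent Cfsg.Agent.H603.Ind
open scoped ComplexConjugate

universe u

variable {G : Type u} [Group G] {p : ℕ} {Q : Subgroup G}

/-- Nontrivial linear characters of `Q`. -/
abbrev Lin (Q : Subgroup G) : Type u := {l : Q →* ℂˣ // l ≠ 1}

theorem comp_ne_one {l : Q →* ℂˣ} (hl : l ≠ 1) (t : Subgroup.normalizer (Q : Set G)) :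
    l.comp (cjQ Q t) ≠ 1 := by
  intro h
  apply hl
  ext x
  obtain ⟨y, rfl⟩ := cjQ_surjective t x
  have := DFunLike.congr_fun h y
  rw [MonoidHom.comp_apply] at this
  rw [this]
  rfl

/-- The action of the normalizer on the nontrivial linear characters. -/
@[reducible] def act (Q : Subgroup G) : MulAction (Subgroup.normalizer (Q : Set G)) (Lin Q) where
  smul t l := ⟨l.1.comp (cjQ Q t), comp_ne_one l.2 t⟩
  one_smul l := by
    apply Subtype.ext
    show l.1.comp (cjQ Q 1) = l.1
    rw [cjQ_one]
    rfl
  mul_smul s t l := by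
    apply Subtype.ext
    show l.1.comp (cjQ Q (s * t)) = (l.1.comp (cjQ Q t)).comp (cjQ Q s)
    rw [MonoidHom.comp_assoc, cjQ_comp]

attribute [local instance] act

theorem smul_coe (t : Subgroup.normalizer (Q : Set G)) (l : Lin Q) :
    ((t • l : Lin Q) : Q →* ℂˣ) = l.1.comp (cjQ Q t) := rfl

variable [Finite G]

theorem mem_stab (h : Hyp p Q) (t : Subgroup.normalizer (Q : Set G)) (l : Lin Q) :
    t ∈ MulAction.stabilizer (Subgroup.normalizer (Q : Set G)) l ↔
      (t : G) ∈ Subgroup.centralizer (Q : Set G) := by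
  rw [MulAction.mem_stabilizer_iff]
  constructor
  · intro ht
    by_contra hc
    apply l.2
    exact h.stab l.1 hc (congrArg Subtype.val ht)
  · intro ht
    apply Subtype.ext
    rw [smul_coe, cjQ_of_mem ht]
    rfl

theorem card_orbit (h : Hyp p Q) (l : Lin Q) :
    Nat.card (MulAction.orbit (Subgroup.normalizer (Q : Set G)) l) *
      Nat.card (Subgroup.centralizer (Q : Set G)) =
      Nat.card (Subgroup.normalizer (Q : Set G)) := by
  have h1 : Nat.card (MulAction.orbit (Subgroup.normalizer (Q : Set G)) l) =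
      (MulAction.stabilizer (Subgroup.normalizer (Q : Set G)) l).index := by
    rw [MulAction.index_stabilizer, Nat.card_coe_set_eq]
  have h2 : Nat.card (Subgroup.centralizer (Q : Set G)) =
      Nat.card (MulAction.stabilizer (Subgroup.normalizer (Q : Set G)) l) :=
    Nat.card_congr ⟨fun c => ⟨⟨c.1, Subgroup.centralizer_le_normalizer _ c.2⟩,
        (mem_stab h _ l).2 c.2⟩,
      fun t => ⟨t.1.1, (mem_stab h _ l).1 t.2⟩, fun _ => rfl, fun _ => rfl⟩
  rw [h1, h2, Subgroup.index_mul_card]

/-- The index of the centralizer in the normalizer. -/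
noncomputable def idx (Q : Subgroup G) : ℕ :=
  Nat.card (Subgroup.normalizer (Q : Set G)) / Nat.card (Subgroup.centralizer (Q : Set G))

theorem idx_mul : idx Q * Nat.card (Subgroup.centralizer (Q : Set G)) =
    Nat.card (Subgroup.normalizer (Q : Set G)) :=
  Nat.div_mul_cancel (Subgroup.card_dvd_of_le (Subgroup.centralizer_le_normalizer _))

theorem card_orbit_eq (h : Hyp p Q) (l : Lin Q) :
    Nat.card (MulAction.orbit (Subgroup.normalizer (Q : Set G)) l) = idx Q := by
  have h1 := card_orbit h l
  rw [← idx_mul] at h1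
  exact Nat.eq_of_mul_eq_mul_right Nat.card_pos h1

omit [Finite G] in
theorem finite_lin [Finite Q] : Finite (Q →* ℂˣ) := by
  have h1 : Finite (IrrCharacter Q) := finite_irr
  refine Finite.of_injective (β := IrrCharacter Q)
    (fun l => ⟨fun x => (l x : ℂ), Characters.Linear.isIrrCharacter_hom l⟩) ?_
  intro a b hab
  have h2 := congrArg Subtype.val hab
  ext x
  exact congrFun h2 x

theorem card_lin (h : Hyp p Q) : Nat.card (Lin Q) + 1 = Nat.card Q := by
  classical
  have : Fintype Q := Fintype.ofFinite _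
  have hf : Finite (Q →* ℂˣ) := finite_lin
  have : Fintype (Q →* ℂˣ) := Fintype.ofFinite _
  rw [← Mult.card_hom (fun a b : Q => Subtype.ext (h.comm a.2 b.2)), Nat.card_eq_fintype_card,
    Nat.card_eq_fintype_card, Fintype.card_subtype_compl, Fintype.card_subtype_eq]
  have : 0 < Fintype.card (Q →* ℂˣ) := Fintype.card_pos
  omega

theorem card_quot (h : Hyp p Q) :
    Nat.card (MulAction.orbitRel.Quotient (Subgroup.normalizer (Q : Set G)) (Lin Q)) * idx Q =
      Nat.card (Lin Q) := by
  classical
  have hf : Finite (Q →* ℂˣ) := finite_lin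
  have : Fintype (MulAction.orbitRel.Quotient (Subgroup.normalizer (Q : Set G)) (Lin Q)) :=
    Fintype.ofFinite _
  rw [Nat.card_congr (MulAction.selfEquivSigmaOrbits (Subgroup.normalizer (Q : Set G)) (Lin Q)),
    Nat.card_sigma]
  rw [Finset.sum_congr rfl fun ω _ => card_orbit_eq h ω.out, Finset.sum_const, Finset.card_univ,
    Nat.card_eq_fintype_card, smul_eq_mul]

end Cfsg.Agent.H603.Orb
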